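import Cfsg.Agent.SL2C.Values
import Cfsg.Agent.Char.Constituents
import Mathlib.RepresentationTheory.Invariants

/-!
# Alperin-Brauer-Gorenstein, local half: the certificate on `SL₂(q)`

For a character of `SL₂(q)`, `q` odd, the dimension `k` of the fixed space of the unipotent group
determines the degree up to a multiple of `q - 1`; when the central involution acts as `-1`,
`(q + 1) k` is at most twice the degree.
-/

set_option autoImplicit false
set_option linter.unusedSectionVars false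
set_option linter.style.haveILetI false

namespace CfsgLib.ABG.Local

open Matrix Finset CfsgLib.SL2C
open scoped ComplexConjugate Classical

variable {F : Type*} [Field F] [Fintype F]

/-- The dimension of the fixed space of the upper unitriangular group. -/
noncomputable def fU (χ : SL F → ℂ) : ℂ := (∑ b : F, χ (bor 1 b)) / (Fintype.card F : ℂ)

theorem fU_zero : fU (0 : SL F → ℂ) = 0 := by simp [fU]

theorem fU_add (χ ψ : SL F → ℂ) : fU (χ + ψ) = fU χ + fU ψ := by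
  simp [fU, Finset.sum_add_distrib, add_div]

theorem fU_one : fU (fun _ : SL F => (1 : ℂ)) = 1 := by
  simp [fU]

theorem fU_of_par {χ : SL F → ℂ} {k : ℂ}
    (h : χ 1 + ∑ b ∈ univ.filter (fun b : F => b ≠ 0), χ (bor 1 b) = k * (Fintype.card F : ℂ)) :
    fU χ = k := by
  have hs : ∑ b : F, χ (bor 1 b) = χ 1 + ∑ b ∈ univ.filter (fun b : F => b ≠ 0), χ (bor 1 b) := by
    rw [Finset.filter_ne', ← Finset.add_sum_erase _ _ (Finset.mem_univ (0 : F)), bor_one_zero]
  rw [fU, hs, h, mul_div_cancel_right₀ _ q_ne_zero]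

theorem one_mem_sgn : (1 : Fˣ) ∈ sgn F := mem_sgn.2 (one_mul 1)

theorem fU_of_const {c : SL F} {χ : SL F → ℂ} {cv sv : Fˣ → ℂ} {pv : Fˣ → F → ℂ} {tv : SL F → ℂ}
    (h : Vals c χ cv sv pv tv) {u : ℂ} (hu : ∀ b : F, b ≠ 0 → pv 1 b = u) {k : ℂ}
    (he : cv 1 + ((Fintype.card F : ℂ) - 1) * u = k * (Fintype.card F : ℂ)) : fU χ = k := by
  refine fU_of_par ?_
  rw [h.apply_one, Finset.sum_congr rfl fun b hb =>
    (h.par 1 one_mem_sgn b (Finset.mem_filter.1 hb).2).trans (hu b (Finset.mem_filter.1 hb).2),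
    Finset.sum_const, nsmul_eq_mul, card_filter_ne_zero]
  exact he

theorem sum_qc {c : SL F} {η : Fˣ →* ℂˣ} {θ : tor c →* ℂˣ} {x₁ x₂ y₁ y₂ : SL F → ℂ}
    (h : IsHalves c η θ x₁ x₂ y₁ y₂) :
    ∑ b ∈ univ.filter (fun b : F => b ≠ 0), qc η b = 0 := by
  rw [sum_ne_zero_eq_sum_units]
  simp only [qc_coe]
  obtain ⟨t, ht⟩ := DFunLike.ne_iff.1 h.η_ne
  have hs : ch η t * ∑ u : Fˣ, ch η u = ∑ u : Fˣ, ch η u := by
    rw [Finset.mul_sum, ← Equiv.sum_comp (Equiv.mulLeft t) fun u => ch η u]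
    refine Finset.sum_congr rfl fun u _ => ?_
    simp [SL2C.ch]
  rcases mul_eq_zero.1 (show (ch η t - 1) * ∑ u : Fˣ, ch η u = 0 by rw [sub_mul, one_mul, hs, sub_self]) with e | e
  · exact absurd (Units.ext (sub_eq_zero.1 e)) ht
  · exact e

theorem fU_of_half {χ : SL F → ℂ} {η : Fˣ →* ℂˣ} {a u v k : ℂ}
    (hq : ∑ b ∈ univ.filter (fun b : F => b ≠ 0), qc η b = 0)
    (h1 : χ 1 = a) (hb : ∀ b : F, b ≠ 0 → χ (bor 1 b) = u + qc η b * v)
    (he : a + ((Fintype.card F : ℂ) - 1) * u = k * (Fintype.card F : ℂ)) : fU χ = k := by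
  refine fU_of_par ?_
  rw [h1, Finset.sum_congr rfl fun b hb' => hb b (Finset.mem_filter.1 hb').2, Finset.sum_add_distrib,
    Finset.sum_const, nsmul_eq_mul, card_filter_ne_zero, ← Finset.sum_mul, hq, zero_mul, add_zero]
  exact he

/-- The fixed space and the degree of the irreducible characters. -/
theorem irr_cases (hodd : Odd (Fintype.card F)) {χ : SL F → ℂ} (hχ : Cfsg.IsIrrCharacter (SL F) χ) :
    χ = (fun _ => 1) ∨ ∃ k l : ℕ, fU χ = (k : ℂ) ∧
      2 * χ 1 = ((Fintype.card F : ℂ) + 1) * k + ((Fintype.card F : ℂ) - 1) * l := by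
  obtain ⟨c, hc⟩ := exists_ell (F := F)
  obtain ⟨η, θ, x₁, x₂, y₁, y₂, h⟩ := exists_halves hc hodd
  obtain ⟨E, E', -, -, hx₁, hx₂, hy₁, hy₂⟩ := h.exists_vals hodd hc
  have hm : χ ∈ L0 c ∪ {x₁, x₂, y₁, y₂} := h.irr_eq ▸ CfsgLib.Char.mem_irrFinset.2 hχ
  have hq := sum_qc h
  have ch1 : ∀ α : Fˣ →* ℂˣ, ch α 1 = 1 := fun α => by rw [SL2C.ch, map_one, Units.val_one]
  simp only [L0, Finset.mem_union, Finset.mem_insert, Finset.mem_singleton, Finset.mem_image] at hm
  rcases hm with ((rfl | rfl) | ⟨α, -, rfl⟩ | ⟨φ, -, rfl⟩) | rfl | rfl | rfl | rfl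
  · exact Or.inl rfl
  · refine Or.inr ⟨1, 1, ?_, by rw [St_apply_one hc]; push_cast; ring⟩
    exact fU_of_const (St_vals hc) (fun _ _ => rfl) (by push_cast; ring)
  · refine Or.inr ⟨2, 0, ?_, by rw [R_apply_one hc]; push_cast; ring⟩
    exact fU_of_const (R_vals hc α) (u := 1) (fun _ _ => ch1 α) (by rw [ch1]; push_cast; ring)
  · refine Or.inr ⟨0, 2, ?_, by rw [Pi'_apply_one hc]; push_cast; ring⟩
    exact fU_of_const (Pi'_vals hc φ) (u := -1) (fun _ _ => by rw [tc_one])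
      (by rw [tc_one]; push_cast; ring)
  · refine Or.inr ⟨1, 0, ?_, by rw [h.x₁_one]; push_cast; ring⟩
    exact fU_of_half hq h.x₁_one (u := 1 / 2) (v := E / 2)
      (fun b hb => by rw [hx₁.par 1 one_mem_sgn b hb, ch1]; ring) (by push_cast; ring)
  · refine Or.inr ⟨1, 0, ?_, by rw [h.x₂_one]; push_cast; ring⟩
    exact fU_of_half hq h.x₂_one (u := 1 / 2) (v := -E / 2)
      (fun b hb => by rw [hx₂.par 1 one_mem_sgn b hb, ch1]; ring) (by push_cast; ring)
  · refine Or.inr ⟨0, 1, ?_, by rw [h.y₁_one]; push_cast; ring⟩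
    exact fU_of_half hq h.y₁_one (u := -1 / 2) (v := E' / 2)
      (fun b hb => by rw [hy₁.par 1 one_mem_sgn b hb, tc_one, ch1]; ring) (by push_cast; ring)
  · refine Or.inr ⟨0, 1, ?_, by rw [h.y₂_one]; push_cast; ring⟩
    exact fU_of_half hq h.y₂_one (u := -1 / 2) (v := -E' / 2)
      (fun b hb => by rw [hy₂.par 1 one_mem_sgn b hb, tc_one, ch1]; ring) (by push_cast; ring)

/-- Every character: `n` is the multiplicity of the trivial character. -/
theorem char_cert (hodd : Odd (Fintype.card F)) {χ : SL F → ℂ} (hχ : Cfsg.IsCharacter (SL F) χ) :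
    ∃ k l n : ℕ, fU χ = (k : ℂ) ∧ Cfsg.classInner χ (fun _ => 1) = (n : ℂ) ∧ n ≤ k ∧
      2 * χ 1 + ((Fintype.card F : ℂ) - 1) * n =
        ((Fintype.card F : ℂ) + 1) * k + ((Fintype.card F : ℂ) - 1) * l := by
  refine CfsgLib.Char.IsCharacter.induction_irr
    (P := fun χ => ∃ k l n : ℕ, fU χ = (k : ℂ) ∧ Cfsg.classInner χ (fun _ => 1) = (n : ℂ) ∧ n ≤ k ∧
      2 * χ 1 + ((Fintype.card F : ℂ) - 1) * n =
        ((Fintype.card F : ℂ) + 1) * k + ((Fintype.card F : ℂ) - 1) * l)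
    ⟨0, 0, 0, by simp [fU_zero], by rw [Nat.cast_zero]; exact CfsgLib.Char.classInner_zero_left _,
      le_rfl, by simp⟩ ?_ ?_ hχ
  · rintro φ ψ ⟨k, l, n, hk, hn, hnk, he⟩ ⟨k', l', n', hk', hn', hnk', he'⟩
    refine ⟨k + k', l + l', n + n', by rw [fU_add, hk, hk']; push_cast; ring, ?_, by omega, ?_⟩
    · rw [CfsgLib.Char.classInner_add_left, hn, hn']; push_cast; ring
    · rw [Pi.add_apply]; push_cast; linear_combination he + he'
  · intro φ hφ
    have h1 := CfsgLib.Char.isIrrCharacter_one (G := SL F)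
    by_cases hne : φ = fun _ => 1
    · subst hne
      refine ⟨1, 0, 1, by rw [fU_one]; simp, ?_, le_rfl, by push_cast; ring⟩
      rw [CfsgLib.Char.IsIrrCharacter.classInner_self h1, Nat.cast_one]
    · obtain ⟨k, l, hk, he⟩ := (irr_cases hodd hφ).resolve_left hne
      refine ⟨k, l, 0, hk, ?_, Nat.zero_le _, by simpa using he⟩
      rw [CfsgLib.Char.IsIrrCharacter.classInner_of_ne hφ h1 hne, Nat.cast_zero]

/-- The central involution acts by `-1`. -/
theorem minus_cert (hodd : Odd (Fintype.card F)) {χ : SL F → ℂ} (hχ : Cfsg.IsCharacter (SL F) χ)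
    (hz : χ (bor (-1) 0) = -χ 1) :
    ∃ k l : ℕ, fU χ = (k : ℂ) ∧
      2 * χ 1 = ((Fintype.card F : ℂ) + 1) * k + ((Fintype.card F : ℂ) - 1) * l := by
  obtain ⟨k, l, n, hk, hn, -, he⟩ := char_cert hodd hχ
  suffices n = 0 by
    subst this
    exact ⟨k, l, hk, by simpa using he⟩
  by_contra h0
  have hsub := CfsgLib.Char.IsCharacter.sub_irr hχ CfsgLib.Char.isIrrCharacter_one
    (show Cfsg.classInner χ (fun _ : SL F => (1 : ℂ)) ≠ 0 by rw [hn]; exact_mod_cast h0)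
  have hb := CfsgLib.Char.IsCharacter.norm_apply_le hsub (bor (-1) 0)
  obtain ⟨d, hd⟩ := CfsgLib.Char.IsCharacter.exists_degree hχ
  simp only [Pi.sub_apply, hz, hd, Complex.sub_re, Complex.natCast_re, Complex.one_re] at hb
  rw [show -(d : ℂ) - 1 = -((d + 1 : ℕ) : ℂ) by push_cast; ring, norm_neg, Complex.norm_natCast] at hb
  push_cast at hb
  linarith

theorem minus_of_add {K : Type*} [Group K] [Finite K] {φ ψ : K → ℂ} (hφ : Cfsg.IsCharacter K φ)
    (hψ : Cfsg.IsCharacter K ψ) {z : K} (h : (φ + ψ) z = -(φ + ψ) 1) : φ z = -φ 1 ∧ ψ z = -ψ 1 := by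
  obtain ⟨a, ha⟩ := CfsgLib.Char.IsCharacter.exists_degree hφ
  obtain ⟨b, hb⟩ := CfsgLib.Char.IsCharacter.exists_degree hψ
  have n₁ := CfsgLib.Char.IsCharacter.norm_apply_le hφ z
  have n₂ := CfsgLib.Char.IsCharacter.norm_apply_le hψ z
  rw [ha, Complex.natCast_re] at n₁
  rw [hb, Complex.natCast_re] at n₂
  simp only [Pi.add_apply, ha, hb] at h
  have hre := congrArg Complex.re h
  simp only [Complex.add_re, Complex.neg_re, Complex.natCast_re] at hre
  have r₁ : (-φ z).re ≤ a := (Complex.re_le_norm _).trans (by rw [norm_neg]; exact n₁)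
  have r₂ : (-ψ z).re ≤ b := (Complex.re_le_norm _).trans (by rw [norm_neg]; exact n₂)
  simp only [Complex.neg_re] at r₁ r₂
  have e₁ := eq_of_re_eq_of_norm_le (w := -φ z) (d := a) (by rw [norm_neg]; exact n₁)
    (by rw [Complex.neg_re]; linarith)
  have e₂ := eq_of_re_eq_of_norm_le (w := -ψ z) (d := b) (by rw [norm_neg]; exact n₂)
    (by rw [Complex.neg_re]; linarith)
  rw [ha, hb]
  simp only [Complex.ofReal_natCast] at e₁ e₂
  exact ⟨neg_eq_iff_eq_neg.1 e₁, neg_eq_iff_eq_neg.1 e₂⟩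

/-- With `q ≡ 3 (mod 4)`, constant values on the root elements and `-1` acting by `-1`, the fixed
space has even dimension. -/
theorem minus_fix_even (h34 : Fintype.card F % 4 = 3) {χ : SL F → ℂ}
    (hχ : Cfsg.IsCharacter (SL F) χ) (hz : χ (bor (-1) 0) = -χ 1)
    (hu : ∀ b : F, b ≠ 0 → χ (bor 1 b) = χ (bor 1 1)) : ∃ j : ℕ, fU χ = ((2 * j : ℕ) : ℂ) := by
  have hodd : Odd (Fintype.card F) := Nat.odd_iff.2 (by omega)
  obtain ⟨c, hc⟩ := exists_ell (F := F)
  obtain ⟨η, θ, x₁, x₂, y₁, y₂, h⟩ := exists_halves hc hodd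
  obtain ⟨E, E', hE, -, hx₁, hx₂, hy₁, hy₂⟩ := h.exists_vals hodd hc
  have hq := sum_qc h
  have hη : ch η (-1 : Fˣ) = -1 := by
    rw [h.σ_eq]; exact Odd.neg_one_pow (Nat.odd_iff.2 (by omega))
  have hθ : tc θ (-1 : Fˣ) = 1 := by rw [h.opp, hη, neg_neg]
  have ch1 : ∀ α : Fˣ →* ℂˣ, ch α 1 = 1 := fun α => by rw [SL2C.ch, map_one, Units.val_one]
  obtain ⟨t, ht⟩ := DFunLike.ne_iff.1 h.η_ne
  have htv : qc η (t : F) = -1 := by
    rw [qc_coe]
    exact (mul_self_eq_one_iff.1 (h.ch_sq t)).resolve_left fun e => ht (Units.ext e)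
  have h1v : qc η (1 : F) = 1 := by rw [← Units.val_one, qc_coe, ch1]
  have hq0 : (Fintype.card F : ℂ) ≠ 0 := q_ne_zero
  suffices key : χ (bor (-1) 0) = -χ 1 → ∃ a : ℤ, ∃ k : ℕ, fU χ = (k : ℂ) ∧ Even ((k : ℤ) - a) ∧
      χ (bor 1 1) - χ (bor 1 (t : F)) = (a : ℂ) * E by
    obtain ⟨a, k, hk, hka, hd⟩ := key hz
    rw [hu _ t.ne_zero, sub_self] at hd
    have hE0 : E ≠ 0 := fun e => by
      rw [e, mul_zero, hη] at hE
      exact hq0 (by linear_combination hE)
    have ha : a = 0 := by exact_mod_cast (mul_eq_zero.1 hd.symm).resolve_right hE0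
    subst ha
    obtain ⟨j, hj⟩ := hka
    exact ⟨j.toNat, by rw [hk]; congr 1; omega⟩
  refine CfsgLib.Char.IsCharacter.induction_irr
    (P := fun χ => Cfsg.IsCharacter (SL F) χ ∧ (χ (bor (-1) 0) = -χ 1 → ∃ a : ℤ, ∃ k : ℕ,
      fU χ = (k : ℂ) ∧ Even ((k : ℤ) - a) ∧ χ (bor 1 1) - χ (bor 1 (t : F)) = (a : ℂ) * E))
    ⟨CfsgLib.Char.isCharacter_zero, fun _ => ⟨0, 0, by simp [fU_zero], by simp, by simp⟩⟩ ?_ ?_ hχ
    |>.2
  · rintro φ ψ ⟨hφ, h1⟩ ⟨hψ, h2⟩
    refine ⟨CfsgLib.Char.IsCharacter.add hφ hψ, fun hm => ?_⟩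
    obtain ⟨m1, m2⟩ := minus_of_add hφ hψ hm
    obtain ⟨a, k, hk, hka, hd⟩ := h1 m1
    obtain ⟨a', k', hk', hka', hd'⟩ := h2 m2
    refine ⟨a + a', k + k', by rw [fU_add, hk, hk']; push_cast; ring, ?_, ?_⟩
    · have := hka.add hka'
      rwa [show (k : ℤ) - a + ((k' : ℤ) - a') = ((k + k' : ℕ) : ℤ) - (a + a') by push_cast; ring] at this
    · simp only [Pi.add_apply]
      push_cast
      linear_combination hd + hd'
  intro φ hφ
  refine ⟨CfsgLib.Char.IsIrrCharacter.isCharacter hφ, fun hm => ?_⟩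
  have hne1 : (-1 : Fˣ) ∈ sgn F := neg_one_mem_sgn
  have absurd_plus : φ (bor (-1) 0) = φ 1 → False := fun e => by
    rw [e] at hm
    exact CfsgLib.Char.IsIrrCharacter.apply_one_ne_zero hφ (by linear_combination hm / 2)
  have hmem : φ ∈ L0 c ∪ {x₁, x₂, y₁, y₂} := h.irr_eq ▸ CfsgLib.Char.mem_irrFinset.2 hφ
  simp only [L0, Finset.mem_union, Finset.mem_insert, Finset.mem_singleton, Finset.mem_image] at hmem
  rcases hmem with ((rfl | rfl) | ⟨α, -, rfl⟩ | ⟨ψ, -, rfl⟩) | rfl | rfl | rfl | rfl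
  · exact (absurd_plus rfl).elim
  · exact (absurd_plus (by rw [(St_vals hc).cen _ hne1, St_apply_one hc])).elim
  · exact ⟨0, 2, fU_of_const (R_vals hc α) (u := 1) (fun _ _ => ch1 α) (by rw [ch1]; push_cast; ring),
      by simp, by rw [(R_vals hc α).par 1 one_mem_sgn 1 one_ne_zero, (R_vals hc α).par 1 one_mem_sgn _ t.ne_zero]; simp⟩
  · exact ⟨0, 0, fU_of_const (Pi'_vals hc ψ) (u := -1) (fun _ _ => by rw [tc_one])
      (by rw [tc_one]; push_cast; ring),
      by simp, by rw [(Pi'_vals hc ψ).par 1 one_mem_sgn 1 one_ne_zero, (Pi'_vals hc ψ).par 1 one_mem_sgn _ t.ne_zero]; simp⟩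
  · refine ⟨1, 1, fU_of_half hq h.x₁_one (u := 1 / 2) (v := E / 2)
      (fun b hb => by rw [hx₁.par 1 one_mem_sgn b hb, ch1]; ring) (by push_cast; ring), by simp, ?_⟩
    rw [hx₁.par 1 one_mem_sgn 1 one_ne_zero, hx₁.par 1 one_mem_sgn _ t.ne_zero, h1v, htv]
    push_cast; ring
  · refine ⟨-1, 1, fU_of_half hq h.x₂_one (u := 1 / 2) (v := -E / 2)
      (fun b hb => by rw [hx₂.par 1 one_mem_sgn b hb, ch1]; ring) (by push_cast; ring), ⟨1, by norm_num⟩, ?_⟩
    rw [hx₂.par 1 one_mem_sgn 1 one_ne_zero, hx₂.par 1 one_mem_sgn _ t.ne_zero, h1v, htv]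
    push_cast; ring
  · exact (absurd_plus (by rw [(h.apply_cen hc hne1).2.2.1, hθ, one_mul])).elim
  · exact (absurd_plus (by rw [(h.apply_cen hc hne1).2.2.2, hθ, one_mul])).elim

/-- The case of unitary type: no fixed vectors of the root group on the minus part. -/
theorem minus_fix_zero (h34 : Fintype.card F % 4 = 3) {χ : SL F → ℂ}
    (hχ : Cfsg.IsCharacter (SL F) χ) (hz : χ (bor (-1) 0) = -χ 1)
    (hu : ∀ b : F, b ≠ 0 → χ (bor 1 b) = χ (bor 1 1))
    (hd : 2 * χ 1 = ((Fintype.card F : ℂ) - 1) ^ 2) : fU χ = 0 := by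
  obtain ⟨k, l, hk, he⟩ := minus_cert (Nat.odd_iff.2 (by omega)) hχ hz
  obtain ⟨j, hj⟩ := minus_fix_even h34 hχ hz hu
  have hkj : k = 2 * j := by exact_mod_cast hk.symm.trans hj
  subst hkj
  obtain ⟨m, hm⟩ : ∃ m, Fintype.card F = 4 * m + 3 := ⟨Fintype.card F / 4, by omega⟩
  have hn : (2 * m + 1) * (4 * m + 2) = 4 * (m + 1) * j + (2 * m + 1) * l := by
    have : (((2 * m + 1) * (4 * m + 2) : ℕ) : ℂ) = ((4 * (m + 1) * j + (2 * m + 1) * l : ℕ) : ℂ) := by
      rw [hd, hm] at he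
      push_cast at he ⊢
      linear_combination he / 2
    exact_mod_cast this
  have hdvd : 2 * m + 1 ∣ j := by
    have h1 : 2 * m + 1 ∣ 4 * (m + 1) * j :=
      (Nat.dvd_add_left (dvd_mul_right _ l)).1 (hn ▸ dvd_mul_right _ _)
    have h2 : 2 * m + 1 ∣ 2 * j := by
      have h3 : 4 * (m + 1) * j = (2 * m + 1) * (2 * j) + 2 * j := by ring
      exact (Nat.dvd_add_right (dvd_mul_right _ _)).1 (h3 ▸ h1)
    exact (Nat.Coprime.dvd_of_dvd_mul_left (Nat.coprime_two_right.2 ⟨m, by omega⟩) h2)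
  obtain ⟨i, rfl⟩ := hdvd
  rcases Nat.eq_zero_or_pos i with rfl | hi
  · rw [hj]; simp
  · exfalso
    have h4 : 4 * (m + 1) ≤ 4 * m + 2 := by
      have h5 : (2 * m + 1) * (4 * (m + 1) * i) ≤ (2 * m + 1) * (4 * m + 2) := by
        rw [hn]; exact le_trans (le_of_eq (by ring)) (Nat.le_add_right _ _)
      have h6 := Nat.le_of_mul_le_mul_left h5 (by omega)
      exact le_trans (Nat.le_mul_of_pos_right _ hi) h6
    omega

/-- An element inverting an odd subgroup has trace at most the dimension of the fixed space. -/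
theorem norm_trace_le_fix {K : Type*} [Group K] [Finite K] {χ : K → ℂ} (hχ : Cfsg.IsCharacter K χ)
    (U : Subgroup K) [Fintype U] (hodd : Odd (Fintype.card U)) {t : K}
    (hinv : ∀ u ∈ U, t * u * t⁻¹ = u⁻¹) :
    ∃ d : ℕ, (∑ u : U, χ u) = (d : ℂ) * (Fintype.card U : ℂ) ∧ ‖χ t‖ ≤ (d : ℝ) := by
  obtain ⟨n, ρ, rfl⟩ := hχ
  haveI : NeZero (Fintype.card U : ℂ) := ⟨by exact_mod_cast Fintype.card_ne_zero⟩
  haveI : Invertible (Fintype.card U : ℂ) := invertibleOfNonzero (by exact_mod_cast Fintype.card_ne_zero)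
  set σ : Representation ℂ U (Fin n → ℂ) := ρ.comp U.subtype with hσ
  set W := σ.invariants with hW
  have hP : LinearMap.IsProj W σ.averageMap := σ.isProj_averageMap
  have hPe : σ.averageMap = (Fintype.card U : ℂ)⁻¹ • ∑ u : U, ρ (u : K) := by
    simp [Representation.averageMap, GroupAlgebra.average, map_sum, hσ, invOf_eq_inv]
  have htr : ∀ a : K, LinearMap.trace ℂ _ (ρ a * σ.averageMap) =
      (Fintype.card U : ℂ)⁻¹ * ∑ u : U, ρ.character (a * u) := fun a => by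
    rw [hPe, mul_smul_comm, map_smul, Finset.mul_sum, map_sum, smul_eq_mul]
    simp only [← map_mul]
    rfl
  refine ⟨Module.finrank ℂ W, ?_, ?_⟩
  · have h := htr 1
    rw [map_one, one_mul, LinearMap.IsProj.trace hP] at h
    simp only [one_mul] at h
    rw [h, mul_comm _⁻¹, inv_mul_cancel_right₀]
    exact_mod_cast Fintype.card_ne_zero
  -- all elements `t * u` are conjugate to `t`
  have hcoset : ∀ u : U, ρ.character (t * u) = ρ.character t := by
    intro u
    obtain ⟨v, hv⟩ : ∃ v : U, v * v = u := by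
      obtain ⟨j, hj⟩ := hodd
      refine ⟨u ^ (j + 1), ?_⟩
      rw [← pow_add, show j + 1 + (j + 1) = Fintype.card U + 1 by omega, pow_succ, pow_card_eq_one,
        one_mul]
    have hvt : (v : K)⁻¹ * t = t * v := by
      rw [← hinv v v.2, mul_assoc, inv_mul_cancel, mul_one]
    rw [← hv, Subgroup.coe_mul, ← mul_assoc, ← hvt, ← Representation.char_conj ρ t (v : K)⁻¹, inv_inv]
  have htW : ∀ (m : ℤ) (x : Fin n → ℂ), x ∈ W → ρ (t ^ m) x ∈ W := by
    intro m x hx u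
    have hN : ∀ w ∈ U, (t ^ m)⁻¹ * w * t ^ m ∈ U := by
      have ht : t ∈ Subgroup.normalizer (U : Set K) := by
        rw [Subgroup.mem_normalizer_iff]
        refine fun w => ⟨fun hw => by rw [hinv w hw]; exact inv_mem hw, fun hw => ?_⟩
        have := hinv _ hw
        have e : w = (t⁻¹ * (t * w * t⁻¹)⁻¹ * t)⁻¹ := by group
        rw [e, ← this]
        refine inv_mem ?_
        simpa [mul_assoc] using hw
      intro w hw
      have := (Subgroup.mem_normalizer_iff.1 (inv_mem (zpow_mem ht m)) w).1 hw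
      rwa [inv_inv] at this
    have h1 := hx ⟨_, hN u u.2⟩
    show ρ (u : K) (ρ (t ^ m) x) = ρ (t ^ m) x
    conv_rhs => rw [← h1]
    show _ = ρ (t ^ m) (ρ ((t ^ m)⁻¹ * (u : K) * t ^ m) x)
    rw [← Module.End.mul_apply, ← Module.End.mul_apply, ← map_mul, ← map_mul]
    group
  let τ : Representation ℂ (Subgroup.zpowers t) W :=
    { toFun := fun g => (ρ (g : K)).restrict (fun x hx => by
        obtain ⟨m, hm⟩ := Subgroup.mem_zpowers_iff.1 g.2
        rw [← hm]; exact htW m x hx)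
      map_one' := LinearMap.ext fun x => Subtype.ext (by simp)
      map_mul' := fun a b => LinearMap.ext fun x => Subtype.ext (by simp) }
  have hb := CfsgLib.Char.IsCharacter.norm_apply_le (CfsgLib.Char.isCharacter_character τ)
    ⟨t, Subgroup.mem_zpowers t⟩
  rw [Representation.char_one, Complex.natCast_re] at hb
  refine le_trans (le_of_eq (congrArg norm ?_)) hb
  have hsum : ρ.character t = LinearMap.trace ℂ _ (ρ t * σ.averageMap) := by
    rw [htr, Finset.sum_congr rfl fun u _ => hcoset u, Finset.sum_const, Finset.card_univ, nsmul_eq_mul,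
      ← mul_assoc, inv_mul_cancel₀ (by exact_mod_cast Fintype.card_ne_zero), one_mul]
  have hmem : ∀ x, (ρ t * σ.averageMap) x ∈ W := fun x => by
    have := htW 1 _ (hP.map_mem x)
    rwa [zpow_one] at this
  rw [hsum, ← LinearMap.trace_restrict_eq_of_forall_mem W _ hmem]
  show _ = LinearMap.trace ℂ W (τ ⟨t, Subgroup.mem_zpowers t⟩)
  congr 1
  refine LinearMap.ext fun x => Subtype.ext ?_
  show ρ t (σ.averageMap x) = ρ t x
  rw [hP.map_id x x.2]

end CfsgLib.ABG.Local
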